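import Mathlib.AlgebraicGeometry.Modules.Sheaf
import Mathlib.AlgebraicGeometry.Restrict
import Mathlib.CategoryTheory.Preadditive.Biproducts
import Groth.Agent.Lib.Modules.Stalk

/-!
# Restriction of sections of a module to an open subscheme

`ResBij U M`: for every open `W`, restriction `M(W) → M(W ⊓ U)` is bijective.  For an open immersion
`j` with range `U` this says that the unit `M ⟶ j_* j^* M` is an isomorphism; then restriction along
`j` is bijective on morphisms into `M`.
-/

set_option linter.dupNamespace false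
set_option linter.style.haveILetI false

universe u

open CategoryTheory Limits AlgebraicGeometry Opposite TopologicalSpace

namespace Groth.Agent.Lib.ParaF.ResBij

variable {X X' : Scheme.{u}} {U : X.Opens} {M N : X.Modules}

lemma presheaf_map_bijective_congr {A A' B B' : X.Opens} (hA : A = A') (hB : B = B')
    (h : A ≤ B) (h' : A' ≤ B') :
    Function.Bijective (M.presheaf.map (homOfLE h).op) ↔
      Function.Bijective (M.presheaf.map (homOfLE h').op) := by
  subst hA hB; rfl

/-- Restriction of sections of `M` from every open `W` to `W ⊓ U` is bijective. -/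
def ResBij (U : X.Opens) (M : X.Modules) : Prop :=
  ∀ W : X.Opens, Function.Bijective (M.presheaf.map (homOfLE (inf_le_left : W ⊓ U ≤ W)).op)

lemma resBij_iff_isIso_unit (j : X' ⟶ X) [IsOpenImmersion j] (hj : j.opensRange = U) (M : X.Modules) :
    ResBij U M ↔ IsIso ((Scheme.Modules.restrictAdjunction j).unit.app M) := by
  rw [Scheme.Modules.Hom.isIso_iff_isIso_app]
  refine forall_congr' fun W => ?_
  rw [ConcreteCategory.isIso_iff_bijective, Scheme.Modules.restrictAdjunction_unit_app_app]
  refine (presheaf_map_bijective_congr (M := M) ?_ rfl _ _).symm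
  rw [j.image_preimage_eq_opensRange_inf, hj, inf_comm]

lemma isIso_unit (j : X' ⟶ X) [IsOpenImmersion j] {M : X.Modules} (h : ResBij j.opensRange M) :
    IsIso ((Scheme.Modules.restrictAdjunction j).unit.app M) :=
  (resBij_iff_isIso_unit j rfl M).mp h

lemma ResBij.of_iso (e : M ≅ N) (h : ResBij U M) : ResBij U N := by
  have hu := (resBij_iff_isIso_unit U.ι U.opensRange_ι M).mp h
  rw [resBij_iff_isIso_unit U.ι U.opensRange_ι]
  exact (NatTrans.isIso_app_iff_of_iso (Scheme.Modules.restrictAdjunction U.ι).unit e).mp hu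

/-- A natural transformation between additive functors which is an isomorphism at each `f i` is one
at `⨁ f`. -/
lemma isIso_app_biproduct {C D : Type*} [Category C] [Category D] [Preadditive C] [Preadditive D]
    {F G : C ⥤ D} [F.Additive] [G.Additive] (η : F ⟶ G) {ι : Type} [Fintype ι] (f : ι → C)
    [HasBiproduct f] (h : ∀ i, IsIso (η.app (f i))) : IsIso (η.app (⨁ f)) := by
  classical
  refine ⟨⟨∑ i, G.map (biproduct.π f i) ≫ inv (η.app (f i)) ≫ F.map (biproduct.ι f i), ?_, ?_⟩⟩
  · rw [Preadditive.comp_sum]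
    have : ∀ i, η.app (⨁ f) ≫ G.map (biproduct.π f i) ≫ inv (η.app (f i)) ≫
        F.map (biproduct.ι f i) = F.map (biproduct.π f i ≫ biproduct.ι f i) := by
      intro i
      rw [← η.naturality_assoc, IsIso.hom_inv_id_assoc, F.map_comp]
    rw [Finset.sum_congr rfl fun i _ => this i, ← F.map_sum, biproduct.total, F.map_id]
  · rw [Preadditive.sum_comp]
    have : ∀ i, (G.map (biproduct.π f i) ≫ inv (η.app (f i)) ≫ F.map (biproduct.ι f i)) ≫
        η.app (⨁ f) = G.map (biproduct.π f i ≫ biproduct.ι f i) := by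
      intro i
      simp only [Category.assoc, η.naturality, IsIso.inv_hom_id_assoc, G.map_comp]
    rw [Finset.sum_congr rfl fun i _ => this i, ← G.map_sum, biproduct.total, G.map_id]

attribute [local instance] preservesBinaryBiproducts_of_preservesBinaryCoproducts

lemma restrictFunctor_additive (j : X' ⟶ X) [IsOpenImmersion j] :
    (Scheme.Modules.restrictFunctor j).Additive :=
  Functor.additive_of_preservesBinaryBiproducts _

lemma ResBij.biproduct {n : ℕ} (f : Fin n → X.Modules) [HasBiproduct f] (h : ∀ i, ResBij U (f i)) :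
    ResBij U (⨁ f) := by
  rw [resBij_iff_isIso_unit U.ι U.opensRange_ι]
  haveI := restrictFunctor_additive U.ι
  exact isIso_app_biproduct (F := 𝟭 X.Modules)
    (G := Scheme.Modules.restrictFunctor U.ι ⋙ Scheme.Modules.pushforward U.ι)
    (Scheme.Modules.restrictAdjunction U.ι).unit f fun i =>
    (resBij_iff_isIso_unit U.ι U.opensRange_ι _).mp (h i)

lemma ResBij.sigmaFin {n : ℕ} (M : X.Modules) (h : ResBij U M) :
    ResBij U (∐ fun _ : Fin n => M) :=
  haveI : HasBiproduct (fun _ : Fin n => M) := HasBiproduct.of_hasCoproduct _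
  (ResBij.biproduct (fun _ : Fin n => M) fun _ => h).of_iso (biproduct.isoCoproduct _)

lemma ResBij.restrict (g : X' ⟶ X) [IsOpenImmersion g] {U' : X'.Opens} (hU' : U' = g ⁻¹ᵁ U)
    (h : ResBij U M) : ResBij U' (M.restrict g) := by
  intro W
  have hW : g ''ᵁ (W ⊓ U') = g ''ᵁ W ⊓ U := by
    subst hU'
    ext1
    change g '' ((W : Set X') ∩ g ⁻¹' (U : Set X)) = g '' (W : Set X') ∩ (U : Set X)
    exact Set.image_inter_preimage _ _ _
  exact (presheaf_map_bijective_congr (M := M) hW rfl _ inf_le_left).mpr (h _)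

lemma resBij_pushforward (j : X' ⟶ X) [IsOpenImmersion j] (hj : j.opensRange = U) (L : X'.Modules) :
    ResBij U ((Scheme.Modules.pushforward j).obj L) := by
  intro W
  have e : j ⁻¹ᵁ (W ⊓ U) = j ⁻¹ᵁ W := by
    subst hj; ext x; simp
  exact (presheaf_map_bijective_congr (M := L) e rfl _ le_rfl).mpr (by
    rw [show homOfLE (le_refl (j ⁻¹ᵁ W)) = 𝟙 _ from rfl, op_id, L.presheaf.map_id]
    exact Function.bijective_id)

lemma Hom.app_map {M N : X.Modules} (φ : M ⟶ N) {O O' : X.Opens} (h : O' ≤ O) (s : Γ(M, O)) :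
    φ.app O' (M.presheaf.map (homOfLE h).op s) = N.presheaf.map (homOfLE h).op (φ.app O s) :=
  NatTrans.naturality_apply φ.mapPresheaf (homOfLE h).op s

/-- A morphism bijective on all small enough opens around each point is an isomorphism. -/
lemma isIso_of_forall_exists_app_bijective {M N : X.Modules} (φ : M ⟶ N)
    (key : ∀ x : X, ∃ W : X.Opens, x ∈ W ∧ ∀ O : X.Opens, O ≤ W → Function.Bijective (φ.app O)) :
    IsIso φ := by
  rw [Modules.Stalk.isIso_iff_stalk_bijective]
  intro x
  obtain ⟨W, hxW, hW⟩ := key x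
  constructor
  · rw [injective_iff_map_eq_zero]
    intro a ha
    obtain ⟨O, hxO, s, rfl⟩ := TopCat.Presheaf.exists_germ_eq M.presheaf a
    rw [Modules.Stalk.stalkFunctor_map_germ] at ha
    obtain ⟨O', hxO', i₁, i₂, e⟩ := TopCat.Presheaf.germ_eq _ x hxO hxO (φ.app O s) 0
      (ha.trans (map_zero _).symm)
    rw [map_zero] at e
    have h' : O' ⊓ W ≤ O := inf_le_left.trans i₁.le
    rw [← TopCat.Presheaf.germ_res_apply M.presheaf (homOfLE h') x ⟨hxO', hxW⟩ s]
    suffices M.presheaf.map (homOfLE h').op s = 0 by rw [this, map_zero]; rfl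
    apply (hW (O' ⊓ W) inf_le_right).1
    rw [map_zero, Hom.app_map, show (homOfLE h').op = i₁.op ≫ (homOfLE inf_le_left).op from rfl,
      Functor.map_comp, ConcreteCategory.comp_apply, e, map_zero]
  · intro b
    obtain ⟨O, hxO, t, rfl⟩ := TopCat.Presheaf.exists_germ_eq N.presheaf b
    obtain ⟨s, hs⟩ := (hW (O ⊓ W) inf_le_right).2
      (N.presheaf.map (homOfLE (inf_le_left : O ⊓ W ≤ O)).op t)
    have hx : x ∈ O ⊓ W := ⟨hxO, hxW⟩
    refine ⟨M.presheaf.germ (O ⊓ W) x hx s, ?_⟩
    rw [Modules.Stalk.stalkFunctor_map_germ, hs, TopCat.Presheaf.germ_res_apply]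

/-- `ResBij` may be tested on the opens of a covering. -/
lemma ResBij.of_forall_exists_le (h : ∀ x : X, ∃ W : X.Opens, x ∈ W ∧ ∀ O : X.Opens, O ≤ W →
    Function.Bijective (M.presheaf.map (homOfLE (inf_le_left : O ⊓ U ≤ O)).op)) : ResBij U M := by
  rw [resBij_iff_isIso_unit U.ι U.opensRange_ι]
  refine isIso_of_forall_exists_app_bijective
    ((Scheme.Modules.restrictAdjunction U.ι).unit.app M) fun x => ?_
  obtain ⟨W, hxW, hW⟩ := h x
  refine ⟨W, hxW, fun O hO => ?_⟩
  rw [Scheme.Modules.restrictAdjunction_unit_app_app]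
  refine (presheaf_map_bijective_congr (M := M) ?_ rfl _ _).mpr (hW O hO)
  rw [U.ι.image_preimage_eq_opensRange_inf, U.opensRange_ι, inf_comm]

lemma ResBij.of_restrict_cover (h : ∀ x : X, ∃ W : X.Opens, x ∈ W ∧
    ResBij (W.ι ⁻¹ᵁ U) (M.restrict W.ι)) : ResBij U M := by
  refine ResBij.of_forall_exists_le fun x => ?_
  obtain ⟨W, hxW, hW⟩ := h x
  refine ⟨W, hxW, fun O hO => ?_⟩
  have e1 : W.ι ''ᵁ (W.ι ⁻¹ᵁ O) = O := by
    rw [W.ι.image_preimage_eq_opensRange_inf, W.opensRange_ι, inf_eq_right.mpr hO]
  have e2 : W.ι ''ᵁ (W.ι ⁻¹ᵁ O ⊓ W.ι ⁻¹ᵁ U) = O ⊓ U := by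
    rw [show W.ι ⁻¹ᵁ O ⊓ W.ι ⁻¹ᵁ U = W.ι ⁻¹ᵁ (O ⊓ U) from rfl,
      W.ι.image_preimage_eq_opensRange_inf, W.opensRange_ι, inf_eq_right.mpr (inf_le_left.trans hO)]
  exact (presheaf_map_bijective_congr (M := M) e2 e1
    (W.ι.image_mono inf_le_left) _).mp (hW (W.ι ⁻¹ᵁ O))

/-- Sections on the whole scheme as morphisms out of the structure sheaf. -/
noncomputable def homUnitEquivTop (M : X.Modules) :
    ((SheafOfModules.unit X.ringCatSheaf : X.Modules) ⟶ M) ≃ Γ(M, ⊤) :=
  (SheafOfModules.unitHomEquiv M).trans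
    { toFun := fun s => s.val (op ⊤)
      invFun := fun m => ⟨fun O => M.presheaf.map (homOfLE le_top).op m, fun {O O'} i => by
        change (M.presheaf.map i) ((M.presheaf.map (homOfLE le_top).op) m) = _
        rw [← ConcreteCategory.comp_apply, ← Functor.map_comp]
        rfl⟩
      left_inv := fun s => Subtype.ext (funext fun O => s.property (homOfLE le_top).op)
      right_inv := fun m => by
        change M.presheaf.map (homOfLE (le_refl (⊤ : X.Opens))).op m = m
        rw [show homOfLE (le_refl (⊤ : X.Opens)) = 𝟙 _ from rfl, op_id, M.presheaf.map_id]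
        rfl }

lemma homUnitEquivTop_comp {M N : X.Modules}
    (f : (SheafOfModules.unit X.ringCatSheaf : X.Modules) ⟶ M) (p : M ⟶ N) :
    homUnitEquivTop N (f ≫ p) = p.app ⊤ (homUnitEquivTop M f) := rfl

lemma restrict_map_eq (j : X' ⟶ X) [IsOpenImmersion j] {L L' : X.Modules} (φ : L ⟶ L') :
    (Scheme.Modules.restrictFunctor j).map φ = ((Scheme.Modules.restrictAdjunction j).homEquiv _ _).symm
      (φ ≫ (Scheme.Modules.restrictAdjunction j).unit.app L') := by
  rw [Adjunction.homEquiv_counit, Functor.map_comp, Category.assoc,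
    Adjunction.left_triangle_components, Category.comp_id]

/-- Restriction along `j` is bijective on morphisms into a module with `ResBij`. -/
lemma restrict_map_bijective (j : X' ⟶ X) [IsOpenImmersion j] (L : X.Modules) {L' : X.Modules}
    (h : ResBij j.opensRange L') :
    Function.Bijective (fun φ : L ⟶ L' => (Scheme.Modules.restrictFunctor j).map φ) := by
  haveI := isIso_unit j h
  simp only [restrict_map_eq]
  exact ((Scheme.Modules.restrictAdjunction j).homEquiv _ _).symm.bijective.comp
    ((asIso ((Scheme.Modules.restrictAdjunction j).unit.app L')).homToEquiv (Z := L)).bijective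

/-- Conversely, bijectivity on morphisms out of the structure sheaf gives bijectivity of
restriction of global sections. -/
lemma top_bijective_of_restrict_map_bijective (j : X' ⟶ X) [IsOpenImmersion j] {M : X.Modules}
    (h : Function.Bijective
      (fun φ : (SheafOfModules.unit X.ringCatSheaf : X.Modules) ⟶ M =>
        (Scheme.Modules.restrictFunctor j).map φ)) :
    Function.Bijective (M.presheaf.map (homOfLE (le_top : j.opensRange ≤ ⊤)).op) := by
  rw [show (fun φ : (SheafOfModules.unit X.ringCatSheaf : X.Modules) ⟶ M =>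
        (Scheme.Modules.restrictFunctor j).map φ) = fun φ =>
      ((Scheme.Modules.restrictAdjunction j).homEquiv _ _).symm
        (φ ≫ (Scheme.Modules.restrictAdjunction j).unit.app M) from
    funext fun φ => restrict_map_eq j φ] at h
  have h1 : Function.Bijective (fun φ : (SheafOfModules.unit X.ringCatSheaf : X.Modules) ⟶ M =>
      φ ≫ (Scheme.Modules.restrictAdjunction j).unit.app M) := by
    have := ((Scheme.Modules.restrictAdjunction j).homEquiv
      (SheafOfModules.unit X.ringCatSheaf) _).bijective.comp h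
    have e : ∀ (α β : Type u) (f g : α → β), (∀ a, f a = g a) → Function.Bijective f →
        Function.Bijective g := fun _ _ f g hfg hf => (funext hfg : f = g) ▸ hf
    exact e _ _ _ _ (fun φ => Equiv.apply_symm_apply _ _) this
  set η := (Scheme.Modules.restrictAdjunction j).unit.app M with hη
  have h2 : Function.Bijective (η.app ⊤) := by
    have := ((homUnitEquivTop _).bijective.comp h1).comp (homUnitEquivTop M).symm.bijective
    have e : ∀ (α β : Type u) (f g : α → β), (∀ a, f a = g a) → Function.Bijective f →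
        Function.Bijective g := fun _ _ f g hfg hf => (funext hfg : f = g) ▸ hf
    refine e _ _ _ _ (fun m => ?_) this
    exact (homUnitEquivTop_comp _ η).trans (congrArg _ ((homUnitEquivTop M).apply_symm_apply m))
  rw [hη, Scheme.Modules.restrictAdjunction_unit_app_app] at h2
  refine (presheaf_map_bijective_congr (M := M) ?_ rfl _ _).mp h2
  rw [j.image_preimage_eq_opensRange_inf, inf_top_eq]

end Groth.Agent.Lib.ParaF.ResBij
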