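import Groth.Prelude.Def_ParaF
import Groth.Prelude.Def_FlatMod2
import Groth.Agent.Lib.ParaF.ResBij

/-!
# Parafactorial pairs: formal properties
-/

set_option linter.style.haveILetI false

universe u

open CategoryTheory Limits AlgebraicGeometry Opposite TopologicalSpace
open Groth.Agent.Lib.ParaF.ResBij

namespace Groth.Agent.Lib.ParaF.Pair

variable {X X' U U' V V' : Scheme.{u}}

lemma isInvertible_of_iso {L L' : X.Modules} (e : L ≅ L') (h : PicF.IsInvertible L) :
    PicF.IsInvertible L' := fun x =>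
  let ⟨W, hW, ⟨f⟩⟩ := h x
  ⟨W, hW, ⟨(Scheme.Modules.restrictFunctor W.ι).mapIso e.symm ≪≫ f⟩⟩

lemma isInvertible_restrict (g : X' ⟶ X) [IsOpenImmersion g] {L : X.Modules}
    (h : PicF.IsInvertible L) : PicF.IsInvertible (L.restrict g) := fun x => by
  obtain ⟨W, hW, ⟨f⟩⟩ := h (g x)
  refine ⟨g ⁻¹ᵁ W, hW, ⟨?_⟩⟩
  haveI : IsOpenImmersion (g ∣_ W) := inferInstance
  exact (Scheme.Modules.restrictFunctorComp (g ⁻¹ᵁ W).ι g).symm.app L ≪≫
    (Scheme.Modules.restrictFunctorCongr (morphismRestrict_ι g W).symm).app L ≪≫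
    (Scheme.Modules.restrictFunctorComp (g ∣_ W) W.ι).app L ≪≫
    (Scheme.Modules.restrictFunctor (g ∣_ W)).mapIso f ≪≫ Scheme.Modules.restrictUnitIso _

lemma isInvertible_structureModule (X : Scheme.{u}) : PicF.IsInvertible (Coh.structureModule X) :=
  fun _ => ⟨⊤, trivial, ⟨Scheme.Modules.restrictUnitIso _⟩⟩

lemma resBij_top {X : Scheme.{u}} (M : X.Modules) : ResBij ⊤ M := fun W =>
  (presheaf_map_bijective_congr (M := M) (inf_top_eq W) rfl _ le_rfl).mpr (by
    rw [show homOfLE (le_refl W) = 𝟙 _ from rfl, op_id, M.presheaf.map_id]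
    exact Function.bijective_id)

/-- Restriction along an isomorphism and its inverse compose to the identity. -/
noncomputable def restrictInvIso (b : V' ⟶ V) [IsIso b] (M : V'.Modules) :
    (M.restrict (inv b)).restrict b ≅ M :=
  (Scheme.Modules.restrictFunctorComp b (inv b)).symm.app M ≪≫
    (Scheme.Modules.restrictFunctorCongr (IsIso.hom_inv_id b)).app M ≪≫
    Scheme.Modules.restrictFunctorId.app M

noncomputable def restrictInvIso' (b : V' ⟶ V) [IsIso b] (M : V.Modules) :
    (M.restrict b).restrict (inv b) ≅ M :=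
  (Scheme.Modules.restrictFunctorComp (inv b) b).symm.app M ≪≫
    (Scheme.Modules.restrictFunctorCongr (IsIso.inv_hom_id b)).app M ≪≫
    Scheme.Modules.restrictFunctorId.app M

section MapBij

variable {C D E : Type*} [Category C] [Category D] [Category E]

lemma mapBij_of_natIso {F G : C ⥤ D} (e : F ≅ G) (L L' : C)
    (h : Function.Bijective (fun φ : L ⟶ L' => F.map φ)) :
    Function.Bijective (fun φ : L ⟶ L' => G.map φ) := by
  have : (fun φ : L ⟶ L' => G.map φ) = (Iso.homCongr (e.app L) (e.app L')) ∘ fun φ => F.map φ :=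
    funext fun φ => by
      change G.map φ = e.inv.app L ≫ F.map φ ≫ e.hom.app L'
      rw [e.hom.naturality, ← Category.assoc, e.inv_hom_id_app, Category.id_comp]
  rw [this]
  exact (Iso.homCongr _ _).bijective.comp h

lemma mapBij_of_objIso {F : C ⥤ D} {L L' M M' : C} (e : L ≅ M) (e' : L' ≅ M')
    (h : Function.Bijective (fun φ : L ⟶ L' => F.map φ)) :
    Function.Bijective (fun φ : M ⟶ M' => F.map φ) := by
  have : (fun φ : M ⟶ M' => F.map φ) = (Iso.homCongr (F.mapIso e) (F.mapIso e')) ∘
      (fun φ => F.map φ) ∘ (Iso.homCongr e e').symm :=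
    funext fun φ => by
      change F.map φ = F.map e.inv ≫ F.map (e.hom ≫ φ ≫ e'.inv) ≫ F.map e'.hom
      rw [← F.map_comp, ← F.map_comp, Category.assoc, Category.assoc, e'.inv_hom_id,
        Category.comp_id, e.inv_hom_id_assoc]
  rw [this]
  exact (Iso.homCongr _ _).bijective.comp (h.comp (Iso.homCongr e e').symm.bijective)

lemma mapBij_cancel_right {F : C ⥤ D} {G : D ⥤ E} {L L' : C}
    (hG : Function.Bijective (fun φ : F.obj L ⟶ F.obj L' => G.map φ))
    (h : Function.Bijective (fun φ : L ⟶ L' => (F ⋙ G).map φ)) :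
    Function.Bijective (fun φ : L ⟶ L' => F.map φ) :=
  (Function.Bijective.of_comp_iff' hG _).mp h

end MapBij

/-- `InvRestrictEquiv` is invariant under isomorphisms of open immersions. -/
lemma invRestrictEquiv_of_iso (j : U ⟶ V) [IsOpenImmersion j] (j' : U' ⟶ V') [IsOpenImmersion j']
    (a : U' ⟶ U) [IsIso a] (b : V' ⟶ V) [IsIso b] (w : j' ≫ b = a ≫ j)
    (h : ParaF.InvRestrictEquiv j) : ParaF.InvRestrictEquiv j' := by
  let e : Scheme.Modules.restrictFunctor b ⋙ Scheme.Modules.restrictFunctor j' ≅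
      Scheme.Modules.restrictFunctor j ⋙ Scheme.Modules.restrictFunctor a :=
    (Scheme.Modules.restrictFunctorComp j' b).symm ≪≫ Scheme.Modules.restrictFunctorCongr w ≪≫
      Scheme.Modules.restrictFunctorComp a j
  have ha : ∀ M M' : U.Modules, Function.Bijective
      (fun φ : M ⟶ M' => (Scheme.Modules.restrictFunctor a).map φ) := fun M M' =>
    restrict_map_bijective a M (Scheme.Hom.opensRange_of_isIso a ▸ resBij_top M')
  have hb : ∀ M M' : V.Modules, Function.Bijective
      (fun φ : M ⟶ M' => (Scheme.Modules.restrictFunctor b).map φ) := fun M M' =>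
    restrict_map_bijective b M (Scheme.Hom.opensRange_of_isIso b ▸ resBij_top M')
  constructor
  · intro L L' hL hL'
    refine mapBij_of_objIso (restrictInvIso b L) (restrictInvIso b L') ?_
    have h1 : Function.Bijective (fun φ : L.restrict (inv b) ⟶ L'.restrict (inv b) =>
        (Scheme.Modules.restrictFunctor j ⋙ Scheme.Modules.restrictFunctor a).map φ) :=
      (ha _ _).comp (h.1 _ _ (isInvertible_restrict _ hL) (isInvertible_restrict _ hL'))
    have h2 := mapBij_of_natIso e.symm _ _ h1
    exact (Function.Bijective.of_comp_iff _ (hb _ _)).mp h2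
  · intro L₀ hL₀
    obtain ⟨L, hL, ⟨f⟩⟩ := h.2 (L₀.restrict (inv a)) (isInvertible_restrict _ hL₀)
    exact ⟨L.restrict b, isInvertible_restrict _ hL,
      ⟨e.app L ≪≫ (Scheme.Modules.restrictFunctor a).mapIso f ≪≫ restrictInvIso a L₀⟩⟩

/-- The identity satisfies `InvRestrictEquiv`. -/
lemma invRestrictEquiv_id (X : Scheme.{u}) : ParaF.InvRestrictEquiv (𝟙 X) := by
  refine ⟨fun L L' _ _ => ?_, fun L₀ h => ⟨L₀, h, ⟨Scheme.Modules.restrictFunctorId.app L₀⟩⟩⟩
  exact mapBij_of_natIso Scheme.Modules.restrictFunctorId.symm L L'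
    (Function.bijective_id : Function.Bijective fun φ : L ⟶ L' => φ)

lemma invRestrictEquiv_of_isIso (j : U ⟶ V) [IsIso j] : ParaF.InvRestrictEquiv j :=
  invRestrictEquiv_of_iso (𝟙 V) j j (𝟙 V) (by simp) (invRestrictEquiv_id V)

lemma resBij_structureModule_iff {X : Scheme.{u}} {U : X.Opens} :
    ResBij U (Coh.structureModule X) ↔
      ∀ W : X.Opens, Function.Bijective (X.presheaf.map (homOfLE (inf_le_left : W ⊓ U ≤ W)).op) :=
  Iff.rfl

lemma resBij_structureModule_restrict {X X' : Scheme.{u}} (g : X' ⟶ X) [IsOpenImmersion g]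
    {U : X.Opens} (h : ResBij U (Coh.structureModule X)) :
    ResBij (g ⁻¹ᵁ U) (Coh.structureModule X') :=
  (h.restrict g rfl).of_iso (Scheme.Modules.restrictUnitIso g)

/-- Modules which are finite locally free inherit `ResBij` from the structure sheaf. -/
lemma resBij_of_isFinLocFree {X : Scheme.{u}} {U : X.Opens}
    (h : ResBij U (Coh.structureModule X)) {E : X.Modules} (hE : FlatMod.IsFinLocFree E) :
    ResBij U E := by
  refine ResBij.of_restrict_cover fun x => ?_
  obtain ⟨W, n, hxW, ⟨e⟩⟩ := hE x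
  exact ⟨W, hxW, ((resBij_structureModule_restrict W.ι h).sigmaFin _).of_iso e.symm⟩

/-- Invertible modules inherit `ResBij` from the structure sheaf. -/
lemma resBij_of_isInvertible {X : Scheme.{u}} {U : X.Opens}
    (h : ResBij U (Coh.structureModule X)) {L : X.Modules} (hL : PicF.IsInvertible L) :
    ResBij U L := by
  refine ResBij.of_restrict_cover fun x => ?_
  obtain ⟨W, hxW, ⟨e⟩⟩ := hL x
  exact ⟨W, hxW, (resBij_structureModule_restrict W.ι h).of_iso e.symm⟩

/-- A module with `ResBij` is the direct image of its restriction. -/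
noncomputable def isoPushforward {X U : Scheme.{u}} (j : U ⟶ X) [IsOpenImmersion j]
    {E : X.Modules} (h : ResBij j.opensRange E) {F : U.Modules} (f : E.restrict j ≅ F) :
    E ≅ (Scheme.Modules.pushforward j).obj F :=
  haveI := isIso_unit j h
  asIso ((Scheme.Modules.restrictAdjunction j).unit.app E) ≪≫
    (Scheme.Modules.pushforward j).mapIso f

noncomputable def restrictPushforwardIso {X U : Scheme.{u}} (j : U ⟶ X) [IsOpenImmersion j]
    (F : U.Modules) : ((Scheme.Modules.pushforward j).obj F).restrict j ≅ F :=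
  (Scheme.Modules.restrictFunctorAdjCounitIso j).app F

/-- The inclusion used in `ParaF.IsParafactorialPair`. -/
noncomputable abbrev incl {X : Scheme.{u}} (V : X.Opens) (U : X.Opens) :
    ((V ⊓ U : X.Opens) : Scheme.{u}) ⟶ (V : Scheme.{u}) :=
  X.homOfLE (inf_le_left : V ⊓ U ≤ V)

lemma opensRange_incl {X : Scheme.{u}} (V U : X.Opens) :
    (incl V U).opensRange = V.ι ⁻¹ᵁ U := by
  rw [Scheme.opensRange_homOfLE]
  ext x
  exact ⟨fun h => h.2, fun h => ⟨x.2, h⟩⟩

lemma resBij_incl {X : Scheme.{u}} {V U : X.Opens} (h : ResBij U (Coh.structureModule X)) :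
    ResBij (incl V U).opensRange (Coh.structureModule (V : Scheme.{u})) :=
  opensRange_incl V U ▸ resBij_structureModule_restrict V.ι h

lemma map_bijective_incl {X : Scheme.{u}} {V U : X.Opens} (h : ResBij U (Coh.structureModule X))
    (L : (V : Scheme.{u}).Modules) {L' : (V : Scheme.{u}).Modules} (hL' : PicF.IsInvertible L') :
    Function.Bijective (fun φ : L ⟶ L' => (Scheme.Modules.restrictFunctor (incl V U)).map φ) :=
  restrict_map_bijective _ L (resBij_of_isInvertible (resBij_incl h) hL')

/-- Full faithfulness of restriction on all `V` gives bijectivity of restriction of functions. -/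
lemma resBij_of_forall_map_bijective {X : Scheme.{u}} {U : X.Opens}
    (h : ∀ V : X.Opens, Function.Bijective
      (fun φ : Coh.structureModule (V : Scheme.{u}) ⟶ Coh.structureModule _ =>
        (Scheme.Modules.restrictFunctor (incl V U)).map φ)) :
    ResBij U (Coh.structureModule X) := by
  intro V
  have h1 := top_bijective_of_restrict_map_bijective (incl V U) (h V)
  refine (presheaf_map_bijective_congr (M := Coh.structureModule X) ?_ ?_
    (V.ι.image_mono le_top) _).mp h1
  · rw [opensRange_incl, V.ι.image_preimage_eq_opensRange_inf, V.opensRange_ι]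
  · rw [V.ι.image_top_eq_opensRange, V.opensRange_ι]

/-- The criterion for a parafactorial pair. -/
theorem isParafactorialPair_iff {X : Scheme.{u}} (Y : Closeds ↥X) :
    ParaF.IsParafactorialPair X Y ↔ ResBij Y.compl (Coh.structureModule X) ∧
      ∀ (V : X.Opens) (L : ((V ⊓ Y.compl : X.Opens) : Scheme.{u}).Modules), PicF.IsInvertible L →
        PicF.IsInvertible ((Scheme.Modules.pushforward (incl V Y.compl)).obj L) := by
  constructor
  · intro h
    have hR : ResBij Y.compl (Coh.structureModule X) := resBij_of_forall_map_bijective fun V =>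
      (h V).1 _ _ (isInvertible_structureModule _) (isInvertible_structureModule _)
    refine ⟨hR, fun V L hL => ?_⟩
    obtain ⟨M, hM, ⟨f⟩⟩ := (h V).2 L hL
    exact isInvertible_of_iso
      (isoPushforward _ (resBij_of_isInvertible (resBij_incl hR) hM) f) hM
  · rintro ⟨hR, hP⟩ V
    exact ⟨fun L L' _ hL' => map_bijective_incl hR L hL',
      fun L hL => ⟨_, hP V L hL, ⟨restrictPushforwardIso _ L⟩⟩⟩

end Groth.Agent.Lib.ParaF.Pair
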