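import Groth.Agent.Lib.ParaF.Pair

/-!
# Parafactorial pairs: localisation
-/

set_option linter.style.haveILetI false

universe u

open CategoryTheory Limits AlgebraicGeometry Opposite TopologicalSpace
open Groth.Agent.Lib.ParaF.ResBij Groth.Agent.Lib.ParaF.Pair

namespace Groth.Agent.Lib.ParaF.Glue

variable {X : Scheme.{u}}

/-- An isomorphism of two restrictions along open immersions with the same range. -/
lemma exists_iso_comp {A B : Scheme.{u}} (f : A ⟶ X) (g : B ⟶ X) [IsOpenImmersion f]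
    [IsOpenImmersion g] (h : f.opensRange = g.opensRange) : ∃ e : A ⟶ B, IsIso e ∧ e ≫ g = f := by
  have e : Set.range f = Set.range g := congrArg (fun U : X.Opens => (U : Set X)) h
  exact ⟨(IsOpenImmersion.isoOfRangeEq f g e).hom, inferInstance,
    IsOpenImmersion.isoOfRangeEq_hom_fac f g e⟩

/-- Invertibility may be tested on a cover by open immersions. -/
lemma isInvertible_of_cover {M : X.Modules}
    (h : ∀ x : X, ∃ (Z : Scheme.{u}) (q : Z ⟶ X) (_ : IsOpenImmersion q),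
      x ∈ q.opensRange ∧ PicF.IsInvertible (M.restrict q)) : PicF.IsInvertible M := by
  intro x
  obtain ⟨Z, q, _, ⟨z, rfl⟩, hM⟩ := h x
  obtain ⟨W, hzW, ⟨t⟩⟩ := hM z
  refine ⟨q ''ᵁ W, ⟨z, hzW, rfl⟩, ?_⟩
  obtain ⟨e, _, he⟩ := exists_iso_comp (q ''ᵁ W).ι (W.ι ≫ q)
    (by rw [Scheme.Opens.opensRange_ι, Scheme.Hom.opensRange_comp, Scheme.Opens.opensRange_ι])
  exact ⟨(Scheme.Modules.restrictFunctorCongr he.symm).app M ≪≫
    (Scheme.Modules.restrictFunctorComp e (W.ι ≫ q)).app M ≪≫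
    (Scheme.Modules.restrictFunctor e).mapIso
      ((Scheme.Modules.restrictFunctorComp W.ι q).app M ≪≫ t) ≪≫
    Scheme.Modules.restrictUnitIso e⟩

lemma closedsIn_compl (W : X.Opens) (Y : Closeds ↥X) :
    (ParaF.closedsIn W Y).compl = W.ι ⁻¹ᵁ Y.compl := rfl

/-- The inclusions inside an open subscheme agree with those in the scheme. -/
lemma exists_iso_incl (W : X.Opens) (Y : Closeds ↥X) (V : (W : Scheme.{u}).Opens) :
    ∃ (a : ((V ⊓ (ParaF.closedsIn W Y).compl : (W : Scheme.{u}).Opens) : Scheme.{u}) ⟶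
        ((W.ι ''ᵁ V ⊓ Y.compl : X.Opens) : Scheme.{u}))
      (b : (V : Scheme.{u}) ⟶ ((W.ι ''ᵁ V : X.Opens) : Scheme.{u})),
      IsIso a ∧ IsIso b ∧ incl V (ParaF.closedsIn W Y).compl ≫ b = a ≫ incl (W.ι ''ᵁ V) Y.compl := by
  obtain ⟨b, hb, eb⟩ := exists_iso_comp (V.ι ≫ W.ι) (W.ι ''ᵁ V).ι
    (by rw [Scheme.Hom.opensRange_comp, Scheme.Opens.opensRange_ι, Scheme.Opens.opensRange_ι])
  obtain ⟨a, ha, ea⟩ := exists_iso_comp ((V ⊓ (ParaF.closedsIn W Y).compl).ι ≫ W.ι)
    (W.ι ''ᵁ V ⊓ Y.compl).ι (by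
      rw [Scheme.Hom.opensRange_comp, Scheme.Opens.opensRange_ι, Scheme.Opens.opensRange_ι,
        closedsIn_compl]
      ext1
      change W.ι '' ((V : Set W) ∩ W.ι ⁻¹' (Y.compl : Set X)) = W.ι '' (V : Set W) ∩ (Y.compl : Set X)
      exact Set.image_inter_preimage _ _ _)
  refine ⟨a, b, ha, hb, ?_⟩
  rw [← cancel_mono (W.ι ''ᵁ V).ι]
  simp only [Category.assoc, eb, Scheme.homOfLE_ι, ea, Scheme.homOfLE_ι_assoc]

lemma isParafactorialPair_restrict {Y : Closeds ↥X} (h : ParaF.IsParafactorialPair X Y)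
    (W : X.Opens) : ParaF.IsParafactorialPair (W : Scheme.{u}) (ParaF.closedsIn W Y) := by
  intro V
  obtain ⟨a, b, ha, hb, w⟩ := exists_iso_incl W Y V
  exact invRestrictEquiv_of_iso _ _ a b w (h (W.ι ''ᵁ V))

lemma invRestrictEquiv_of_closedsIn {W : X.Opens} {Y : Closeds ↥X}
    (h : ParaF.IsParafactorialPair (W : Scheme.{u}) (ParaF.closedsIn W Y)) {P : X.Opens}
    (hP : P ≤ W) : ParaF.InvRestrictEquiv (incl P Y.compl) := by
  obtain ⟨V, rfl⟩ : ∃ V : (W : Scheme.{u}).Opens, W.ι ''ᵁ V = P := ⟨W.ι ⁻¹ᵁ P, by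
    rw [W.ι.image_preimage_eq_opensRange_inf, W.opensRange_ι, inf_eq_right.mpr hP]⟩
  obtain ⟨a, b, ha, hb, w⟩ := exists_iso_incl W Y V
  refine invRestrictEquiv_of_iso _ _ (inv a) (inv b) ?_ (h V)
  rw [IsIso.comp_inv_eq, Category.assoc, w, IsIso.inv_hom_id_assoc]

lemma opensRange_homOfLE' {A B : X.Opens} (h : A ≤ B) {U : X.Opens} (hA : A = B ⊓ U) :
    (X.homOfLE h).opensRange = B.ι ⁻¹ᵁ U := by
  subst hA
  exact opensRange_incl B U

lemma isParafactorialPair_of_openCover {Y : Closeds ↥X} {ι : Type*} (W : ι → X.Opens)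
    (hW : ⨆ i, W i = ⊤)
    (h : ∀ i, ParaF.IsParafactorialPair (W i : Scheme.{u}) (ParaF.closedsIn (W i) Y)) :
    ParaF.IsParafactorialPair X Y := by
  have hmem : ∀ x : X, ∃ i, x ∈ W i := fun x =>
    Opens.mem_iSup.mp (show x ∈ ⨆ i, W i from hW ▸ trivial)
  have hR : ResBij Y.compl (Coh.structureModule X) := ResBij.of_restrict_cover fun x => by
    obtain ⟨i, hi⟩ := hmem x
    exact ⟨W i, hi, (((isParafactorialPair_iff _).mp (h i)).1).of_iso
      (Scheme.Modules.restrictUnitIso _).symm⟩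
  refine (isParafactorialPair_iff Y).mpr ⟨hR, fun V L hL => isInvertible_of_cover fun v => ?_⟩
  obtain ⟨i, hi⟩ := hmem (V.ι v)
  let q := X.homOfLE (inf_le_left : V ⊓ W i ≤ V)
  refine ⟨_, q, inferInstance, ?_, ?_⟩
  · change v ∈ (X.homOfLE _).opensRange
    rw [opensRange_homOfLE' _ rfl]
    exact hi
  let r := X.homOfLE (inf_le_inf_right Y.compl (inf_le_left : V ⊓ W i ≤ V))
  obtain ⟨N, hN, ⟨f⟩⟩ := (invRestrictEquiv_of_closedsIn (h i) (inf_le_right : V ⊓ W i ≤ W i)).2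
    (L.restrict r) (isInvertible_restrict r hL)
  set M := (Scheme.Modules.pushforward (incl V Y.compl)).obj L
  have hM : ResBij (incl (V ⊓ W i) Y.compl).opensRange (M.restrict q) := by
    refine (resBij_pushforward (incl V Y.compl) (opensRange_incl V Y.compl) L).restrict q ?_
    rw [opensRange_incl, ← Scheme.Hom.comp_preimage, Scheme.homOfLE_ι]
  have g : (M.restrict q).restrict (incl (V ⊓ W i) Y.compl) ≅ L.restrict r :=
    (Scheme.Modules.restrictFunctorComp _ q).symm.app M ≪≫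
      (Scheme.Modules.restrictFunctorCongr
        (show incl (V ⊓ W i) Y.compl ≫ q = r ≫ incl V Y.compl by simp [q, r, incl])).app M ≪≫
      (Scheme.Modules.restrictFunctorComp r (incl V Y.compl)).app M ≪≫
      (Scheme.Modules.restrictFunctor r).mapIso (restrictPushforwardIso _ L)
  exact isInvertible_of_iso
    (isoPushforward _ (resBij_of_isInvertible (resBij_incl hR) hN) f ≪≫
      (isoPushforward _ hM g).symm) hN

lemma isParafactorialPair_mono {Y Y' : Closeds ↥X} (hle : Y' ≤ Y)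
    (h : ParaF.IsParafactorialPair X Y) : ParaF.IsParafactorialPair X Y' := by
  have hc : Y.compl ≤ Y'.compl := fun x hx hx' => hx (hle hx')
  have hR := ((isParafactorialPair_iff Y).mp h).1
  have hR' : ResBij Y'.compl (Coh.structureModule X) := by
    intro W
    have h1 := hR W
    have h2 := hR (W ⊓ Y'.compl)
    have e : W ⊓ Y'.compl ⊓ Y.compl = W ⊓ Y.compl := by
      rw [inf_assoc, inf_eq_right.mpr hc]
    have h3 : W ⊓ Y.compl ≤ W ⊓ Y'.compl := inf_le_inf_left W hc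
    have h2' := (presheaf_map_bijective_congr (M := Coh.structureModule X) e rfl _ h3).mp h2
    refine (Function.Bijective.of_comp_iff' h2' _).mp ?_
    rw [← CategoryTheory.hom_comp, ← Functor.map_comp]
    exact h1
  intro V
  refine ⟨fun L L' _ hL' => map_bijective_incl hR' L hL', fun L₀ hL₀ => ?_⟩
  let k := X.homOfLE (inf_le_inf_left V hc)
  obtain ⟨L, hL, ⟨f⟩⟩ := (h V).2 (L₀.restrict k) (isInvertible_restrict k hL₀)
  have hk : ∀ {N : ((V ⊓ Y'.compl : X.Opens) : Scheme.{u}).Modules}, PicF.IsInvertible N →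
      ResBij k.opensRange N := fun hN => resBij_of_isInvertible (by
    rw [show k.opensRange = _ from opensRange_homOfLE' _ (by
      rw [inf_assoc, inf_eq_right.mpr hc] : V ⊓ Y.compl = V ⊓ Y'.compl ⊓ Y.compl)]
    exact resBij_structureModule_restrict _ hR) hN
  have g : (L.restrict (incl V Y'.compl)).restrict k ≅ L₀.restrict k :=
    (Scheme.Modules.restrictFunctorComp k _).symm.app L ≪≫
      (Scheme.Modules.restrictFunctorCongr (X.homOfLE_homOfLE _ _)).app L ≪≫ f
  exact ⟨L, hL, ⟨isoPushforward k (hk (isInvertible_restrict _ hL)) g ≪≫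
    (isoPushforward k (hk hL₀) (Iso.refl _)).symm⟩⟩

end Groth.Agent.Lib.ParaF.Glue
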