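import Groth.Agent.Lib.ParaF.Glue
import Groth.Prelude.Def_FEt

/-!
# Parafactorial local rings
-/

set_option linter.style.haveILetI false

universe u

open CategoryTheory Limits AlgebraicGeometry Opposite TopologicalSpace
open Groth.Agent.Lib.ParaF.ResBij Groth.Agent.Lib.ParaF.Pair

namespace Groth.Agent.Lib.ParaF.Local

lemma picTrivial_of_isIso {U U' : Scheme.{u}} (e : U' ⟶ U) [IsIso e] (h : ParaF.PicTrivial U) :
    ParaF.PicTrivial U' := fun L hL => by
  obtain ⟨t⟩ := h _ (isInvertible_restrict (inv e) hL)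
  exact ⟨(restrictInvIso e L).symm ≪≫ (Scheme.Modules.restrictFunctor e).mapIso t ≪≫
    Scheme.Modules.restrictUnitIso e⟩

variable (A : Type u) [CommRing A] [IsLocalRing A]

lemma opens_eq_top_or_le (V : (Spec (CommRingCat.of A)).Opens) :
    V = ⊤ ∨ V ≤ FEt.puncturedSpec A := by
  by_cases h : IsLocalRing.closedPoint A ∈ V
  · exact Or.inl ((IsLocalRing.closedPoint_mem_iff V).mp h)
  · exact Or.inr fun x hx hx' => h (Set.mem_singleton_iff.mp hx' ▸ hx)

lemma resBij_of_bijective
    (h : Function.Bijective ((Spec (CommRingCat.of A)).presheaf.map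
      (homOfLE (le_top : FEt.puncturedSpec A ≤ ⊤)).op)) :
    ResBij (FEt.puncturedSpec A) (Coh.structureModule (Spec (CommRingCat.of A))) := by
  intro W
  rcases opens_eq_top_or_le A W with rfl | hW
  · exact (presheaf_map_bijective_congr (M := Coh.structureModule (Spec (CommRingCat.of A)))
      (top_inf_eq _) rfl _ le_top).mpr h
  · refine (presheaf_map_bijective_congr (M := Coh.structureModule (Spec (CommRingCat.of A)))
      (inf_eq_left.mpr hW) rfl _ le_rfl).mpr ?_
    rw [show homOfLE (le_refl W) = 𝟙 _ from rfl, op_id, CategoryTheory.Functor.map_id]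
    exact Function.bijective_id

/-- A local ring is parafactorial iff restriction of functions to the punctured spectrum is
bijective and the punctured spectrum has trivial Picard group. -/
theorem isParafactorialLocalRing_iff :
    ParaF.IsParafactorialLocalRing A ↔
      (Function.Bijective ((Spec (CommRingCat.of A)).presheaf.map
          (homOfLE (le_top : FEt.puncturedSpec A ≤ ⊤)).op) ∧
        ParaF.PicTrivial (FEt.puncturedSpec A : Scheme.{u})) := by
  set X := Spec (CommRingCat.of A)
  constructor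
  · intro h
    refine ⟨(presheaf_map_bijective_congr (M := Coh.structureModule X) (top_inf_eq _) rfl _ le_top).mp
      (((isParafactorialPair_iff _).mp h).1 ⊤), ?_⟩
    refine picTrivial_of_isIso
      (X.isoOfEq (top_inf_eq (FEt.puncturedSpec A))).inv fun L hL => ?_
    obtain ⟨M, hM, ⟨f⟩⟩ := (h ⊤).2 L hL
    obtain ⟨W, hW, ⟨t⟩⟩ := hM ⟨IsLocalRing.closedPoint A, trivial⟩
    have hT : W = ⊤ := by
      have hT' : (⊤ : X.Opens).ι ''ᵁ W = ⊤ :=
        (IsLocalRing.closedPoint_mem_iff _).mp ⟨_, hW, rfl⟩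
      rw [← (⊤ : X.Opens).ι.preimage_image_eq W, hT', Scheme.Hom.preimage_top]
    subst hT
    haveI : IsIso (⊤ : ((⊤ : X.Opens) : Scheme.{u}).Opens).ι := (Scheme.topIso _).isIso_hom
    have t' : M ≅ Coh.structureModule _ := (restrictInvIso' (⊤ : (_ : Scheme.{u}).Opens).ι M).symm ≪≫
      (Scheme.Modules.restrictFunctor (inv (⊤ : (_ : Scheme.{u}).Opens).ι)).mapIso t ≪≫
      Scheme.Modules.restrictUnitIso _
    exact ⟨f.symm ≪≫ (Scheme.Modules.restrictFunctor _).mapIso t' ≪≫
      Scheme.Modules.restrictUnitIso _⟩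
  · rintro ⟨hb, hp⟩ V
    have hR := resBij_of_bijective A hb
    rcases opens_eq_top_or_le A V with rfl | hV
    · refine ⟨fun L L' _ hL' => map_bijective_incl hR L hL', fun L hL => ?_⟩
      obtain ⟨t⟩ := picTrivial_of_isIso (X.isoOfEq (top_inf_eq (FEt.puncturedSpec A))).hom hp L hL
      exact ⟨_, isInvertible_structureModule _, ⟨Scheme.Modules.restrictUnitIso _ ≪≫ t.symm⟩⟩
    · have e : V ⊓ (FEt.puncturedSpec A) = V := inf_eq_left.mpr hV
      haveI : IsIso (incl V (FEt.puncturedSpec A)) := by
        have : incl V (FEt.puncturedSpec A) = (X.isoOfEq e).hom := by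
          rw [← cancel_mono V.ι, Scheme.homOfLE_ι]; exact (Scheme.isoOfEq_hom_ι _ e).symm
        rw [this]; infer_instance
      exact invRestrictEquiv_of_isIso (incl V (FEt.puncturedSpec A))

end Groth.Agent.Lib.ParaF.Local
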